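import Groth.Agent.CAlgH3.RegularHom
import Mathlib.Algebra.Homology.DerivedCategory.Ext.ExactSequences
import Mathlib.Tactic

/-!
# Projective dimension and Ext into the ring
-/

universe u

open CategoryTheory Abelian

namespace Groth.Agent.VBPnLib

open CAlgH3

variable {A : Type u} [CommRing A]

theorem ext_pi_eq_zero (M : ModuleCat.{u} A) (n m : ℕ)
    (h : Subsingleton (Ext M (ModuleCat.of A A) n)) (e : Ext M (ModuleCat.of A (Fin m → A)) n) : e = 0 := by
  classical
  have hid : Ext.mk₀ (𝟙 (ModuleCat.of A (Fin m → A))) = ∑ i : Fin m,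
      Ext.mk₀ (ModuleCat.ofHom (LinearMap.proj i) ≫ ModuleCat.ofHom (LinearMap.single A (fun _ : Fin m => A) i)) := by
    rw [← Ext.mk₀_sum]
    congr 1
    ext v j
    simp [Pi.single_apply]
  rw [← Ext.comp_mk₀_id e, hid, Ext.comp_sum]
  refine Finset.sum_eq_zero fun i _ => ?_
  rw [← Ext.mk₀_comp_mk₀, ← Ext.comp_assoc_of_third_deg_zero,
    Subsingleton.elim (α := Ext M (ModuleCat.of A A) n) (e.comp (Ext.mk₀ _) (add_zero n)) 0, Ext.zero_comp]

theorem pd_step [IsNoetherianRing A] : ∀ (n : ℕ) (M : Type u) [AddCommGroup M] [Module A M] [Module.Finite A M],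
    PD A (n + 2) M → Subsingleton (Ext (ModuleCat.of A M) (ModuleCat.of A A) (n + 1)) → PD A (n + 1) M := by
  intro n
  induction n with
  | zero =>
    intro M _ _ _ hM hE
    obtain ⟨r, f, hf⟩ := Module.Finite.exists_fin' A M
    have hK : Module.Projective A (LinearMap.ker f) := pd_one_iff.1 ((pd_ker_iff hf 0).1 hM)
    haveI : Module.Finite A (LinearMap.ker f) := Module.Finite.iff_fg.2 (IsNoetherian.noetherian _)
    obtain ⟨t, g, hg⟩ := Module.Finite.exists_fin' A (LinearMap.ker f)
    obtain ⟨s, hs⟩ := Module.projective_lifting_property g LinearMap.id hg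
    have hE' : Subsingleton (Ext (ModuleCat.of A M) (ModuleCat.of A (LinearMap.ker f)) 1) := ⟨fun a b => by
      rw [← sub_eq_zero]
      have h1 := ext_pi_eq_zero (ModuleCat.of A M) 1 t hE ((a - b).comp (Ext.mk₀ (ModuleCat.ofHom s)) (add_zero 1))
      have h2 := congrArg (fun e => e.comp (Ext.mk₀ (ModuleCat.ofHom g)) (add_zero 1)) h1
      simp only [Ext.zero_comp, Ext.comp_assoc_of_third_deg_zero, Ext.mk₀_comp_mk₀, ← ModuleCat.ofHom_comp] at h2
      rwa [hs, show ModuleCat.ofHom (LinearMap.id : LinearMap.ker f →ₗ[A] _) = 𝟙 _ from rfl, Ext.comp_mk₀_id] at h2⟩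
    have hS := LinearMap.shortExact_shortComplexKer hf
    obtain ⟨x, hx⟩ := Ext.covariant_sequence_exact₃ (ModuleCat.of A M) hS (Ext.mk₀ (𝟙 _)) (zero_add 1)
      (@Subsingleton.elim _ hE' _ _)
    obtain ⟨σ, rfl⟩ := (Ext.mk₀_bijective _ _).2 x
    rw [Ext.mk₀_comp_mk₀] at hx
    have hσ := congrArg ModuleCat.Hom.hom ((Ext.mk₀_bijective _ _).1 hx)
    exact pd_retract σ.hom f hσ (pd_one_iff.2 inferInstance)
  | succ n ih =>
    intro M _ _ _ hM hE
    obtain ⟨r, f, hf⟩ := Module.Finite.exists_fin' A M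
    haveI : Module.Finite A (LinearMap.ker f) := Module.Finite.iff_fg.2 (IsNoetherian.noetherian _)
    refine (pd_ker_iff hf n).2 (ih _ ((pd_ker_iff hf (n + 1)).1 hM) ⟨fun a b => ?_⟩)
    rw [← sub_eq_zero]
    have hS := LinearMap.shortExact_shortComplexKer hf
    obtain ⟨y, hy⟩ := Ext.contravariant_sequence_exact₁ hS (ModuleCat.of A A) (a - b)
      (show 1 + (n + 1) = n + 1 + 1 by omega) (@Subsingleton.elim _ hE _ _)
    have hF : PD A 1 (Fin r → A) := pd_one_iff.2 inferInstance
    haveI : HasProjectiveDimensionLT (ModuleCat.of A (Fin r → A)) 1 := hF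
    have hy0 : y = 0 := @Subsingleton.elim _ (HasProjectiveDimensionLT.subsingleton (ModuleCat.of A (Fin r → A)) 1 (n + 1) (by omega) _) y 0
    rw [← hy, hy0, Ext.comp_zero]

theorem pd_of_ext [IsRegularLocalRing A] (M : Type u) [AddCommGroup M] [Module A M] [Module.Finite A M] (q : ℕ)
    (h : ∀ i, q < i → Subsingleton (Ext (ModuleCat.of A M) (ModuleCat.of A A) i)) : PD A (q + 1) M := by
  have key : ∀ j, PD A (q + 1 + j) M → PD A (q + 1) M := by
    intro j
    induction j with
    | zero => exact id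
    | succ j ih => exact fun hj => ih (by
        have h1 := pd_step (q + j) M (by rwa [show q + j + 2 = q + 1 + (j + 1) by omega]) (h _ (by omega))
        rwa [show q + 1 + j = q + j + 1 by omega])
  exact key ((IsLocalRing.maximalIdeal A).spanFinrank + 1) (pd_mono (by omega) (pd_finite M))

end Groth.Agent.VBPnLib
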